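import Groth.Agent.Lib.GrpdCut19.Main
import Groth.Agent.Lib.EGA43Top.FibreStalk
import Groth.Agent.Lib.Residual14.OnePoint

/-!
# Cutting down a fibre, over an arbitrary base
-/

set_option autoImplicit false
set_option linter.style.haveILetI false
set_option backward.isDefEq.respectTransparency.types false
universe u

open CategoryTheory CategoryTheory.Limits AlgebraicGeometry TopologicalSpace Topology IsLocalRing
open Groth.Agent.GrpdCut19 (IsLocPrincipal fibIdeal trace trace_eq exists_hypersurface_avoid ker_stalkMap_principal)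

noncomputable section

namespace Groth.Agent.GrpdProper32

theorem lfp_of_isLocPrincipal {H P : Scheme.{u}} (h : H ⟶ P) [IsClosedImmersion h] (hl : IsLocPrincipal h) :
    LocallyOfFinitePresentation h := by
  refine (HasRingHomProperty.iff_exists_appLE (P := @LocallyOfFinitePresentation) (f := h)
    (RingHom.finitePresentation_stableUnderComposition.stableUnderCompositionWithLocalizationAway
      RingHom.finitePresentation_holdsForLocalizationAway).left).2 fun x => ?_
  obtain ⟨D, g, hD, hw, hker, -⟩ := hl (h x)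
  refine ⟨⟨D, hD⟩, ⟨h ⁻¹ᵁ D, hD.preimage h⟩, hw, le_rfl, ?_⟩
  rw [← Scheme.Hom.app_eq_appLE]
  exact RingHom.FinitePresentation.of_surjective _ (h.app_surjective D hD) (by rw [hker]; exact ⟨{g}, by simp⟩)

/-- Finitely many points of a fibre detect the elements which are not regular on it. -/
theorem exists_finite_assPoints {Y Z : Scheme.{u}} (v : Y ⟶ Z) (z : Z) [LocallyOfFiniteType v] [QuasiCompact v] :
    ∃ S : Set Y, S.Finite ∧ (∀ η ∈ S, v η = z) ∧ ∀ y, v y = z → ∀ (U : Y.Opens) (hy : y ∈ U) (s : Γ(Y, U)),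
      (∀ η ∈ S, η ⤳ y → η ∈ Y.basicOpen s) →
      Ideal.Quotient.mk (fibIdeal v y) (Y.presheaf.germ U y hy s) ∈
        nonZeroDivisors (Y.presheaf.stalk y ⧸ fibIdeal v y) := by
  let f := v.fiberToSpecResidueField z
  let ι := v.fiberι z
  haveI : LocallyOfFiniteType f := MorphismProperty.pullback_snd _ _ inferInstance
  haveI : AlgebraicGeometry.IsNoetherian (v.fiber z) :=
    { toCompactSpace := inferInstance
      toIsLocallyNoetherian := LocallyOfFiniteType.isLocallyNoetherian f }
  obtain ⟨S₀, hS₀, -, hreg⟩ := GrpdCut19.exists_finite_assPoints f (IsLocalRing.closedPoint _)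
  refine ⟨ι '' S₀, hS₀.image _, ?_, ?_⟩
  · rintro _ ⟨a, -, rfl⟩
    have : ι a ∈ Set.range (v.fiberι z) := ⟨a, rfl⟩
    rwa [v.range_fiberι] at this
  intro y hy U hyU s hs
  obtain ⟨b, rfl⟩ : y ∈ Set.range ι := by
    show y ∈ Set.range (v.fiberι z)
    rw [v.range_fiberι]; exact hy
  have h1 := hreg b (Subsingleton.elim _ _) (ι ⁻¹ᵁ U) hyU (ι.app U s) fun η hη hsp => by
    rw [← Scheme.preimage_basicOpen]
    exact hs _ ⟨η, hη, rfl⟩ (hsp.map ι.continuous)
  have hbot : fibIdeal f b = ⊥ := by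
    have hfield := Residual14.isField_stalk_of_etale_field (𝟙 (Spec (CommRingCat.of (Z.residueField z)))) (f b)
    have hm : maximalIdeal ((Spec (Z.residueField z)).presheaf.stalk (f b)) = ⊥ :=
      IsLocalRing.isField_iff_maximalIdeal_eq.1 hfield
    rw [fibIdeal, hm, Ideal.map_bot]
  obtain ⟨e, he⟩ := EGA43Top.exists_ringEquiv_fiber_stalk v z b
  have h2 : (v.fiber z).presheaf.germ (ι ⁻¹ᵁ U) b hyU (ι.app U s) =
      e (Ideal.Quotient.mk _ (Y.presheaf.germ U (ι b) hyU s)) := by
    rw [he]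
    exact (Scheme.Hom.germ_stalkMap_apply ι U b hyU s).symm
  refine mem_nonZeroDivisors_iff_right.2 fun x hx => e.injective ?_
  rw [map_zero]
  have h3 : Ideal.Quotient.mk (fibIdeal f b) (e x) *
      Ideal.Quotient.mk (fibIdeal f b) ((v.fiber z).presheaf.germ (ι ⁻¹ᵁ U) b hyU (ι.app U s)) = 0 := by
    rw [h2, ← map_mul, ← map_mul, hx, map_zero, map_zero]
  have h4 := (mem_nonZeroDivisors_iff_right.1 h1) _ h3
  rwa [Ideal.Quotient.eq_zero_iff_mem, hbot, Ideal.mem_bot] at h4

theorem exists_closed_notMem {T X Y Z : Scheme.{u}} (pX : X ⟶ T) (pY : Y ⟶ T) (pZ : Z ⟶ T)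
    [LocallyOfFiniteType pX] [QuasiCompact pX] [LocallyOfFiniteType pY] [QuasiCompact pY]
    [LocallyOfFiniteType pZ] [QuasiCompact pZ]
    (u : Y ⟶ X) (v : Y ⟶ Z) (hu : u ≫ pX = pY) (hv : v ≫ pZ = pY) (z : Z)
    (hzc : ∀ z' : Z, z' ∈ closure ({z} : Set Z) → pZ z' = pZ z → z' = z)
    (hinf : (u '' (v ⁻¹' {z})).Infinite) (Sx : Set X) (hSx : Sx.Finite) :
    ∃ x ∈ u '' (v ⁻¹' {z}), x ∉ Sx ∧ ∀ x', pX x' = pX x → x ⤳ x' → x' = x := by
  let s := pZ z
  let wX : pY.fiber s ⟶ pX.fiber s := pullback.map pY (T.fromSpecResidueField s) pX (T.fromSpecResidueField s)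
    u (𝟙 _) (𝟙 _) (by rw [Category.comp_id, hu]) (by rw [Category.comp_id, Category.id_comp])
  let wZ : pY.fiber s ⟶ pZ.fiber s := pullback.map pY (T.fromSpecResidueField s) pZ (T.fromSpecResidueField s)
    v (𝟙 _) (𝟙 _) (by rw [Category.comp_id, hv]) (by rw [Category.comp_id, Category.id_comp])
  have hwX : wX ≫ pX.fiberι s = pY.fiberι s ≫ u := pullback.lift_fst _ _ _
  have hwZ : wZ ≫ pZ.fiberι s = pY.fiberι s ≫ v := pullback.lift_fst _ _ _
  haveI : LocallyOfFiniteType (pY.fiberToSpecResidueField s) := MorphismProperty.pullback_snd _ _ inferInstance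
  haveI : LocallyOfFiniteType (pX.fiberToSpecResidueField s) := MorphismProperty.pullback_snd _ _ inferInstance
  haveI hYf : IsNoetherian (pY.fiber s) :=
    { toCompactSpace := inferInstance
      toIsLocallyNoetherian := LocallyOfFiniteType.isLocallyNoetherian (pY.fiberToSpecResidueField s) }
  haveI hXf : IsNoetherian (pX.fiber s) :=
    { toCompactSpace := inferInstance
      toIsLocallyNoetherian := LocallyOfFiniteType.isLocallyNoetherian (pX.fiberToSpecResidueField s) }
  haveI : LocallyOfFiniteType wX := by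
    haveI : LocallyOfFiniteType (wX ≫ pX.fiberToSpecResidueField s) := by
      rw [show wX ≫ pX.fiberToSpecResidueField s = pY.fiberToSpecResidueField s from
        (pullback.lift_snd _ _ _).trans (Category.comp_id _)]
      exact MorphismProperty.pullback_snd _ _ inferInstance
    exact locallyOfFiniteType_of_comp wX (pX.fiberToSpecResidueField s)
  obtain ⟨ζ, hζ⟩ : z ∈ Set.range (pZ.fiberι s) := by rw [pZ.range_fiberι]; rfl
  have hζc : IsClosed ({ζ} : Set (pZ.fiber s)) := by
    rw [← closure_eq_iff_isClosed]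
    refine subset_antisymm (fun b hb => ?_) subset_closure
    refine (pZ.fiberι s).isEmbedding.injective ((hzc _ ?_ ?_).trans hζ.symm)
    · rw [← hζ]
      exact specializes_iff_mem_closure.1 ((specializes_iff_mem_closure.2 hb).map (pZ.fiberι s).continuous)
    · have : pZ.fiberι s b ∈ Set.range (pZ.fiberι s) := ⟨b, rfl⟩
      rwa [pZ.range_fiberι] at this
  let Ef := wX '' (wZ ⁻¹' {ζ})
  have hEf : IsConstructible Ef := by
    refine Scheme.Hom.isConstructible_image wX ?_
    have hc : IsClosed (wZ ⁻¹' {ζ}) := hζc.preimage wZ.continuous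
    rw [← isConstructible_compl]
    exact (TopologicalSpace.NoetherianSpace.isCompact _).isConstructible hc.isOpen_compl
  have hE : u '' (v ⁻¹' {z}) = pX.fiberι s '' Ef := by
    ext x
    constructor
    · rintro ⟨y, hy, rfl⟩
      obtain ⟨b, rfl⟩ : y ∈ Set.range (pY.fiberι s) := by
        rw [pY.range_fiberι, Set.mem_preimage, Set.mem_singleton_iff, ← hv, Scheme.Hom.comp_apply, hy]
      refine ⟨wX b, ⟨b, (pZ.fiberι s).isEmbedding.injective ?_, rfl⟩, ?_⟩
      · rw [hζ, ← Scheme.Hom.comp_apply, hwZ, Scheme.Hom.comp_apply]; exact hy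
      · rw [← Scheme.Hom.comp_apply, hwX, Scheme.Hom.comp_apply]
    · rintro ⟨_, ⟨b, hb, rfl⟩, rfl⟩
      refine ⟨pY.fiberι s b, ?_, by rw [← Scheme.Hom.comp_apply, ← hwX, Scheme.Hom.comp_apply]⟩
      show v (pY.fiberι s b) = z
      rw [← Scheme.Hom.comp_apply, ← hwZ, Scheme.Hom.comp_apply, show wZ b = ζ from hb, hζ]
  by_contra hne
  push Not at hne
  let F0 := Ef ∩ closedPoints (pX.fiber s)
  have hF0 : F0.Finite := by
    refine Set.Finite.subset (hSx.preimage (pX.fiberι s).isEmbedding.injective.injOn) ?_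
    rintro a ⟨ha, hac⟩
    show pX.fiberι s a ∈ Sx
    by_contra hn
    obtain ⟨x', h1, h2, h3⟩ := hne _ (hE ▸ ⟨a, ha, rfl⟩) hn
    have hs : pX (pX.fiberι s a) = s := by
      have : pX.fiberι s a ∈ Set.range (pX.fiberι s) := ⟨a, rfl⟩
      rwa [pX.range_fiberι] at this
    obtain ⟨a', rfl⟩ : x' ∈ Set.range (pX.fiberι s) := by
      rw [pX.range_fiberι]; exact h1.trans hs
    have := (mem_closedPoints_iff.1 hac).closure_eq ▸
      specializes_iff_mem_closure.1 ((pX.fiberι s).isEmbedding.isInducing.specializes_iff.1 h2)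
    exact h3 (congrArg _ this)
  have hc : IsClosed F0 := by
    rw [← Set.biUnion_of_singleton F0]
    exact hF0.isClosed_biUnion fun a ha => mem_closedPoints_iff.1 ha.2
  have hd : IsConstructible (Ef \ F0) := hEf.sdiff (by
    rw [← isConstructible_compl]
    exact (TopologicalSpace.NoetherianSpace.isCompact _).isConstructible hc.isOpen_compl)
  have h0 := GrpdCut19.eq_empty_of_closedPoints_disjoint hd (Set.eq_empty_iff_forall_notMem.2 fun a ha => ha.1.2 ⟨ha.1.1, ha.2⟩)
  exact hinf (hE ▸ (hF0.subset (Set.sdiff_eq_empty.1 h0)).image _)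

/-- A slice avoiding the associated points of the fibre is flat over the base at the points of the fibre. -/
theorem flat_stalkMap_slice {Y Z : Scheme.{u}} (v : Y ⟶ Z) (z : Z) [LocallyOfFinitePresentation v] {S : Set Y}
    (hS : ∀ y, v y = z → ∀ (U : Y.Opens) (hy : y ∈ U) (s : Γ(Y, U)),
      (∀ η ∈ S, η ⤳ y → η ∈ Y.basicOpen s) →
      Ideal.Quotient.mk (fibIdeal v y) (Y.presheaf.germ U y hy s) ∈
        nonZeroDivisors (Y.presheaf.stalk y ⧸ fibIdeal v y))
    {W H P : Scheme.{u}} {k : W ⟶ Y} {ψ : W ⟶ H} {φ : Y ⟶ P} {h : H ⟶ P} (sq : IsPullback k ψ φ h)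
    [IsClosedImmersion h] (hh : IsLocPrincipal h) (hSh : ∀ η ∈ S, φ η ∉ Set.range h)
    (hflat : ∀ y, v y = z → (v.stalkMap y).hom.Flat) (w : W) (hw : v (k w) = z) :
    ((k ≫ v).stalkMap w).hom.Flat := by
  haveI : IsClosedImmersion k := MorphismProperty.of_isPullback sq.flip ‹_›
  obtain ⟨D, g, hD, hwD, hg, hran⟩ := hh (φ (k w))
  let b := φ.stalkMap (k w) (P.presheaf.germ D (φ (k w)) hwD g)
  have hker : RingHom.ker (k.stalkMap w).hom = Ideal.span {b} := ker_stalkMap_principal sq w hD hwD hg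
  have hb : b = Y.presheaf.germ (φ ⁻¹ᵁ D) (k w) hwD (φ.app D g) := Scheme.Hom.germ_stalkMap_apply φ D _ hwD g
  have hreg : Ideal.Quotient.mk (fibIdeal v (k w)) b ∈ nonZeroDivisors _ := by
    rw [hb]
    refine hS (k w) hw _ hwD _ fun η hη hηy => ?_
    have hηD : φ η ∈ D := (hηy.map φ.continuous).mem_open D.2 hwD
    rw [← Scheme.preimage_basicOpen]
    exact not_not.1 fun hn => hSh η hη ((hran _ hηD).2 hn)
  have hmax : b ∈ maximalIdeal (Y.presheaf.stalk (k w)) := by
    refine (mem_maximalIdeal _).2 fun hu => ?_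
    have h0 : k.stalkMap w b = 0 := by
      have : b ∈ RingHom.ker (k.stalkMap w).hom := hker ▸ Ideal.mem_span_singleton_self b
      exact this
    exact not_isUnit_zero (h0 ▸ hu.map (k.stalkMap w).hom)
  have h1 := GrpdSlice19.flat_quot_stalk v (k w) (hflat _ hw) b hmax hreg
  let e : (Y.presheaf.stalk (k w) ⧸ Ideal.span {b}) ≃+* W.presheaf.stalk w :=
    (Ideal.quotEquivOfEq hker.symm).trans
      (RingHom.quotientKerEquivOfSurjective (k.stalkMap_surjective w))
  rw [Scheme.Hom.stalkMap_comp]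
  show ((k.stalkMap w).hom.comp (v.stalkMap (k w)).hom).Flat
  have he : ((k.stalkMap w).hom.comp (v.stalkMap (k w)).hom) =
      e.toRingHom.comp ((Ideal.Quotient.mk (Ideal.span {b})).comp (v.stalkMap (k w)).hom) := by
    ext r; rfl
  rw [he]
  exact RingHom.Flat.comp h1 (RingHom.Flat.of_bijective e.bijective)

variable {T X Y Z : Scheme.{u}} (u : Y ⟶ X) (v : Y ⟶ Z) (z : Z)

theorem exists_cut_finite {R : Type u} [CommRing R] (pX : X ⟶ T) (pY : Y ⟶ T) (pZ : Z ⟶ T)
    [LocallyOfFiniteType pX] [QuasiCompact pX] [LocallyOfFiniteType pY] [QuasiCompact pY] [LocallyOfFinitePresentation v] [QuasiCompact v]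
    [LocallyOfFiniteType pZ] [QuasiCompact pZ]
    (hu : u ≫ pX = pY) (hv : v ≫ pZ = pY) {n : ℕ} (j : X ⟶ CohB1.ProjSpace n R) [IsImmersion j]
    (hzc : ∀ z' : Z, z' ∈ closure ({z} : Set Z) → pZ z' = pZ z → z' = z) :
    ∀ (C : Closeds (pX.fiber (pZ z))) (F : Scheme.{u}) (i : F ⟶ X), IsClosedImmersion i → LocallyOfFinitePresentation i →
      (C : Set (pX.fiber (pZ z))) = closure (pX.fiberι (pZ z) ⁻¹' trace u v z i) →
      (trace u v z i).Nonempty →
      (∀ y' : ↥(pullback i u), (pullback.snd i u ≫ v) y' = z → ((pullback.snd i u ≫ v).stalkMap y').hom.Flat) →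
      ∃ (F : Scheme.{u}) (i : F ⟶ X), IsClosedImmersion i ∧ LocallyOfFinitePresentation i ∧ (trace u v z i).Finite ∧ (trace u v z i).Nonempty ∧
        ∀ y' : ↥(pullback i u), (pullback.snd i u ≫ v) y' = z → ((pullback.snd i u ≫ v).stalkMap y').hom.Flat := by
  haveI hlft : LocallyOfFiniteType (pX.fiberToSpecResidueField (pZ z)) := MorphismProperty.pullback_snd _ _ inferInstance
  haveI : AlgebraicGeometry.IsNoetherian (pX.fiber (pZ z)) :=
    { toCompactSpace := inferInstance
      toIsLocallyNoetherian := LocallyOfFiniteType.isLocallyNoetherian (pX.fiberToSpecResidueField (pZ z)) }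
  intro C
  induction C using WellFoundedLT.induction with
  | _ C ih =>
  intro F i hi hilfp hC hne hflat
  by_cases hfin : (trace u v z i).Finite
  · exact ⟨F, i, hi, hilfp, hfin, hne, hflat⟩
  let u' := pullback.snd i u ≫ u
  let v' := pullback.snd i u ≫ v
  let pY' := pullback.snd i u ≫ pY
  have hu' : u' ≫ pX = pY' := (Category.assoc _ _ _).trans (congrArg _ hu)
  have hv' : v' ≫ pZ = pY' := (Category.assoc _ _ _).trans (congrArg _ hv)
  haveI : IsClosedImmersion (pullback.snd i u) := MorphismProperty.pullback_snd _ _ hi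
  haveI : LocallyOfFiniteType pY' := inferInstance
  haveI : QuasiCompact pY' := inferInstance
  haveI : LocallyOfFinitePresentation (pullback.snd i u) := MorphismProperty.pullback_snd _ _ hilfp
  haveI : LocallyOfFinitePresentation v' := inferInstance
  haveI : LocallyOfFiniteType v' := inferInstance
  haveI : QuasiCompact v' := inferInstance
  obtain ⟨S, hS, hSz, hSreg⟩ := exists_finite_assPoints v' z
  have htr : trace u v z i = u' '' (v' ⁻¹' {z}) := trace_eq u v z i
  obtain ⟨x₀, hx₀, hx₀S, hx₀c⟩ := exists_closed_notMem pX pY' pZ u' v' hu' hv' z hzc (htr ▸ hfin) _ (hS.image u')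
  obtain ⟨H, h, hh, hlp, hh₀, hhS⟩ := exists_hypersurface_avoid n R (j x₀) (j '' (u' '' S))
    ((hS.image u').image j) (by
      rintro _ ⟨_, ⟨η, hη, rfl⟩, rfl⟩ hsp
      refine hx₀S ⟨η, hη, hx₀c _ ?_ (j.isEmbedding.isInducing.specializes_iff.1 hsp)⟩
      obtain ⟨y, hy, rfl⟩ := hx₀
      have key : ∀ a, v' a = z → pX (u' a) = pZ z := fun a ha => by
        rw [← Scheme.Hom.comp_apply, hu', ← hv', Scheme.Hom.comp_apply, ha]
      rw [key η (hSz η hη), key y hy])
  haveI : LocallyOfFinitePresentation h := lfp_of_isLocPrincipal h hlp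
  let F' := pullback (i ≫ j) h
  let i' : F' ⟶ X := pullback.fst _ _ ≫ i
  haveI : IsClosedImmersion (pullback.fst (i ≫ j) h) := MorphismProperty.pullback_fst _ _ hh
  have hi' : IsClosedImmersion i' := inferInstance
  haveI : LocallyOfFinitePresentation (pullback.fst (i ≫ j) h) := MorphismProperty.pullback_fst _ _ ‹_›
  have hi'' : LocallyOfFinitePresentation i' := inferInstance
  have hran : Set.range i' = Set.range i ∩ j ⁻¹' Set.range h := by
    simp only [i', Scheme.Hom.comp_base, TopCat.coe_comp, Set.range_comp]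
    rw [Scheme.Pullback.range_fst (i ≫ j) h]
    ext x
    constructor
    · rintro ⟨a, ha, rfl⟩
      exact ⟨⟨a, rfl⟩, ha⟩
    · rintro ⟨⟨a, rfl⟩, ha⟩
      exact ⟨a, ha, rfl⟩
  have htr' : trace u v z i' = trace u v z i ∩ j ⁻¹' Set.range h := by
    simp only [trace, hran, Set.preimage_inter, ← Set.image_inter_preimage]
    rw [Set.inter_right_comm]
  obtain ⟨η, hη⟩ : S.Nonempty := by
    obtain ⟨y, hy, -⟩ := hx₀
    by_contra hS0
    have h0 := hSreg y hy ⊤ trivial 0 fun η hη _ => absurd ⟨η, hη⟩ hS0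
    rw [map_zero, map_zero] at h0
    haveI : Nontrivial (↑((pullback i u).presheaf.stalk y) ⧸ fibIdeal v' y) := by
      refine Ideal.Quotient.nontrivial_iff.2 fun htop => ?_
      haveI : IsLocalHom (v'.stalkMap y).hom := inferInstance
      have hle : fibIdeal v' y ≤ IsLocalRing.maximalIdeal _ :=
        Ideal.map_le_iff_le_comap.2 fun a ha => by
          rw [Ideal.mem_comap, IsLocalRing.mem_maximalIdeal]
          exact fun hu => (IsLocalRing.mem_maximalIdeal _).1 ha (isUnit_of_map_unit _ _ hu)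
      exact (IsLocalRing.maximalIdeal.isMaximal _).ne_top (top_le_iff.1 (htop ▸ hle))
    exact zero_notMem_nonZeroDivisors h0
  have hmem : u' η ∈ trace u v z i := htr ▸ ⟨η, hSz η hη, rfl⟩
  refine ih ⟨closure (pX.fiberι (pZ z) ⁻¹' trace u v z i'), isClosed_closure⟩ (lt_of_le_of_ne ?_ fun he => ?_)
    F' i' hi' hi'' rfl ⟨x₀, by rw [htr']; exact ⟨htr ▸ hx₀, hh₀⟩⟩ ?_
  · rw [← SetLike.coe_subset_coe, hC, htr']
    exact closure_mono (Set.preimage_mono Set.inter_subset_left)
  · obtain ⟨a, ha⟩ : u' η ∈ Set.range (pX.fiberι (pZ z)) := by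
      rw [pX.range_fiberι, Set.mem_preimage, Set.mem_singleton_iff, ← Scheme.Hom.comp_apply, hu', ← hv',
        Scheme.Hom.comp_apply, hSz η hη]
    have h1 : a ∈ closure (pX.fiberι (pZ z) ⁻¹' trace u v z i') := by
      have := congrArg (fun C : Closeds (pX.fiber (pZ z)) => (C : Set (pX.fiber (pZ z)))) he
      exact (Set.ext_iff.1 (this.trans hC) a).2 (subset_closure (show pX.fiberι (pZ z) a ∈ _ by rw [ha]; exact hmem))
    have h2 : closure (pX.fiberι (pZ z) ⁻¹' trace u v z i') ⊆ (pX.fiberι (pZ z) ≫ j) ⁻¹' Set.range h :=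
      closure_minimal (fun b hb => (htr'.le hb).2)
        (h.isClosedEmbedding.isClosed_range.preimage (pX.fiberι (pZ z) ≫ j).continuous)
    have h3 := h2 h1
    simp only [Set.mem_preimage, Scheme.Hom.comp_apply, ha] at h3
    exact hhS _ ⟨_, ⟨η, hη, rfl⟩, rfl⟩ h3
  · let k : pullback i' u ⟶ pullback i u := pullback.lift (pullback.fst i' u ≫ pullback.fst _ _) (pullback.snd i' u)
      (by rw [Category.assoc]; exact pullback.condition)
    let ψ : pullback i' u ⟶ H := pullback.fst i' u ≫ pullback.snd _ _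
    have hk : k ≫ pullback.snd i u = pullback.snd i' u := pullback.lift_snd _ _ _
    have hk1 : k ≫ pullback.fst i u = pullback.fst i' u ≫ pullback.fst (i ≫ j) h := pullback.lift_fst _ _ _
    have sq : IsPullback k ψ (pullback.fst i u ≫ i ≫ j) h := by
      refine ⟨⟨by rw [reassoc_of% hk1, pullback.condition, Category.assoc]⟩, ⟨PullbackCone.IsLimit.mk _
        (fun c => pullback.lift (pullback.lift (c.fst ≫ pullback.fst i u) c.snd ((Category.assoc _ _ _).trans c.condition))
          (c.fst ≫ pullback.snd i u) (by simp only [i', pullback.lift_fst_assoc, Category.assoc, pullback.condition]))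
        (fun c => ?_) (fun c => ?_) fun c m h1 h2 => ?_⟩⟩
      · refine pullback.hom_ext ?_ ?_
        · rw [Category.assoc, hk1, pullback.lift_fst_assoc, pullback.lift_fst]
        · rw [Category.assoc, hk, pullback.lift_snd]
      · simp only [ψ, pullback.lift_fst_assoc, pullback.lift_snd]
      · refine pullback.hom_ext (pullback.hom_ext ?_ ?_) ?_
        · rw [pullback.lift_fst, pullback.lift_fst, Category.assoc, ← hk1, reassoc_of% h1]
        · rw [pullback.lift_fst, pullback.lift_snd, Category.assoc]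
          exact h2
        · rw [pullback.lift_snd, ← hk, reassoc_of% h1]
    intro w hw
    have e : pullback.snd i' u ≫ v = k ≫ v' := by rw [← hk, Category.assoc]
    rw [e] at hw
    have hfl := flat_stalkMap_slice v' z hSreg sq hlp (fun η hη hr => hhS _ ⟨_, ⟨η, hη, rfl⟩, rfl⟩ (by
      simpa only [u', ← Scheme.Hom.comp_apply, ← pullback.condition, Category.assoc, ← pullback.condition_assoc]
        using hr)) hflat w hw
    rwa [e]

end Groth.Agent.GrpdProper32
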