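import Groth.Agent.Lib.GrpdQSecEx19.Arrows
import Groth.Agent.Lib.GrpdProper32.Cut
import Groth.Agent.Lib.QuotProj11.Poly
import Groth.Agent.Lib.FinProj19.Basic
import Groth.Agent.Lib.GrpQuot.EquivRel
import Groth.Prelude.Def_Mor2

/-!
# Existence of quasi-sections near a point
-/

set_option autoImplicit false
set_option linter.style.haveILetI false
set_option backward.isDefEq.respectTransparency.types false
universe u

open CategoryTheory CategoryTheory.Limits AlgebraicGeometry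

noncomputable section

namespace Groth.Agent.GrpdProper32

open Groth.Agent.GrpdB Groth.Agent.GrpdQSec19 Groth.Agent.GrpdQSecEx19

/-- The property is insensitive to flat base change. -/
theorem good_iff_of_isPullback' {X Y X' Y' : Scheme.{u}} {f : X ⟶ Y} {f' : X' ⟶ Y'} {g : X' ⟶ X} {b : Y' ⟶ Y}
    (sq : IsPullback g f' f b) [Flat b] [LocallyOfFiniteType f] [QuasiCompact f'] (r : Y') :
    Good f (b r) ↔ Good f' r := by
  haveI : LocallyOfFiniteType f' := MorphismProperty.of_isPullback sq ‹_›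
  haveI : Flat g := MorphismProperty.of_isPullback sq.flip ‹_›
  have hsq : ∀ x', f (g x') = b (f' x') := fun x' => by
    rw [← Scheme.Hom.comp_apply, sq.w, Scheme.Hom.comp_apply]
  have hsurj : ∀ x, f x = b r → ∃ x', g x' = x ∧ f' x' = r := fun x hx => by
    obtain ⟨p, hp₁, hp₂⟩ := Scheme.Pullback.exists_preimage_pullback (f := f) (g := b) x r hx
    refine ⟨sq.isoPullback.inv p, ?_, ?_⟩
    · rw [← Scheme.Hom.comp_apply, sq.isoPullback_inv_fst]; exact hp₁
    · rw [← Scheme.Hom.comp_apply, sq.isoPullback_inv_snd]; exact hp₂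
  constructor
  · rintro ⟨hfin, ⟨x, hx⟩, hflat⟩
    obtain ⟨x', -, hx'⟩ := hsurj x hx
    refine ⟨finite_of_quasiFiniteAt f' r fun x' hx' => ?_, ⟨x', hx'⟩, fun x' hx' =>
      FlatH4.flat_stalkMap_baseChange sq.flip x' (hflat _ (by rw [hsq, hx']))⟩
    let V : X.Opens := f.quasiFiniteLocus
    have hV : g x' ∈ V := by
      rw [Scheme.Hom.mem_quasiFiniteLocus]
      exact quasiFiniteAt_of_finite f (by rw [hsq, hx']; exact hfin)
    haveI : LocallyQuasiFinite (V.ι ≫ f) := by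
      rw [← Scheme.Hom.quasiFiniteLocus_eq_top_iff, Scheme.Hom.quasiFiniteLocus_comp]
      exact V.ι_preimage_self
    haveI : LocallyQuasiFinite ((g ⁻¹ᵁ V).ι ≫ f') :=
      MorphismProperty.of_isPullback ((isPullback_morphismRestrict g V).paste_vert sq) ‹_›
    exact Scheme.Hom.quasiFiniteAt_comp_iff_of_isOpenImmersion.1
      (((g ⁻¹ᵁ V).ι ≫ f').quasiFiniteAt ⟨x', hV⟩)
  · rintro ⟨hfin, ⟨x', hx'⟩, hflat⟩
    refine ⟨(hfin.image g).subset fun x hx => ?_, ⟨g x', by rw [Set.mem_preimage, hsq, show f' x' = r from hx']; rfl⟩,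
      fun x hx => ?_⟩
    · obtain ⟨a, rfl, ha⟩ := hsurj x hx
      exact ⟨a, ha, rfl⟩
    · obtain ⟨a, rfl, ha⟩ := hsurj x hx
      refine Descend.flat_stalkMap_of_comp g f a (Flat.stalkMap _ _) ?_
      rw [sq.w, Scheme.Hom.stalkMap_comp]
      exact RingHom.Flat.comp (Flat.stalkMap b (f' a)) (hflat a ha)

variable {S : Scheme.{u}} (G : Grpd.GroupoidScheme S) [IsProper G.s] [Flat G.s] [LocallyOfFinitePresentation G.s]
  [LocallyQuasiFinite G.j] [LocallyOfFiniteType G.pU] [QuasiCompact G.pU]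

theorem exists_quasiSection_nhd (n : ℕ) (eP : G.U ⟶ CohB1.ProjSpaceOver n S) [IsImmersion eP]
    (heP : eP ≫ CohB1.ProjSpaceOver.toBase n S = G.pU) (z : G.U)
    (hz : ∀ z' : G.U, z' ∈ closure ({z} : Set G.U) → G.pU z' = G.pU z → z' = z) :
    ∃ (W : G.U.Opens) (hW : G.t ⁻¹ᵁ W = G.s ⁻¹ᵁ W), z ∈ W ∧
      ∃ (U' : Scheme.{u}) (u : U' ⟶ (W : Scheme.{u})), IsImmersion u ∧
        Mor2.IsFinLocFree (pullback.fst (G.t.resLE W (G.s ⁻¹ᵁ W) hW.ge) u ≫ (G.s ∣_ W)) ∧
        Surjective (pullback.fst (G.t.resLE W (G.s ⁻¹ᵁ W) hW.ge) u ≫ (G.s ∣_ W)) ∧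
        ∀ E : Set U', (∀ x ∈ E, ∀ y ∈ E, ∃ r : G.R,
            G.t r = (u ≫ W.ι) x ∧ G.s r = (u ≫ W.ι) y) →
          ∃ V : U'.Opens, IsAffineOpen V ∧ E ⊆ (V : Set U') := by
  haveI : Flat G.t := by
    have e : G.t = inv' (𝟙 G.R) ≫ G.s := by rw [inv_s, Category.id_comp]
    rw [e, inv', Category.id_comp]
    haveI : IsIso G.i := GrpQuot.isIso_i G
    infer_instance
  obtain ⟨T, hT, hzT, -⟩ := exists_isAffineOpen_mem_and_subset (X := S) (x := G.pU z) (U := ⊤) trivial
  haveI : IsAffine (T : Scheme.{u}) := hT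
  let UT := G.pU ⁻¹ᵁ T
  let RT := G.s ⁻¹ᵁ UT
  have hRT : G.t ⁻¹ᵁ UT = RT := by
    simp only [UT, RT, ← Scheme.Hom.comp_preimage, G.t_over, G.s_over]
  let pX : (UT : Scheme.{u}) ⟶ T := G.pU ∣_ T
  let v : (RT : Scheme.{u}) ⟶ UT := G.s ∣_ UT
  let u₀ : (RT : Scheme.{u}) ⟶ UT := G.t.resLE UT RT hRT.ge
  have hu₀ : u₀ ≫ pX = v ≫ pX := by
    rw [← cancel_mono T.ι]
    calc (u₀ ≫ pX) ≫ T.ι = (u₀ ≫ UT.ι) ≫ G.pU := by rw [Category.assoc, morphismRestrict_ι, Category.assoc]
      _ = RT.ι ≫ G.pR := by rw [Scheme.Hom.resLE_comp_ι, Category.assoc, G.t_over]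
      _ = (v ≫ UT.ι) ≫ G.pU := by rw [morphismRestrict_ι, Category.assoc, G.s_over]
      _ = (v ≫ pX) ≫ T.ι := by rw [Category.assoc, Category.assoc, morphismRestrict_ι]
  haveI : IsProper v := IsZariskiLocalAtTarget.restrict (P := @IsProper) ‹_› UT
  haveI : LocallyOfFiniteType pX := IsZariskiLocalAtTarget.restrict (P := @LocallyOfFiniteType) ‹_› T
  haveI : QuasiCompact pX := IsZariskiLocalAtTarget.restrict (P := @QuasiCompact) ‹_› T
  haveI : Flat v := IsZariskiLocalAtTarget.restrict (P := @Flat) ‹_› UT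
  haveI : LocallyOfFinitePresentation v :=
    IsZariskiLocalAtTarget.restrict (P := @LocallyOfFinitePresentation) ‹_› UT
  let sqP := QuotProj11.isPullback_spaceEmb n S T hT
  let j : (UT : Scheme.{u}) ⟶ CohB1.ProjSpace n Γ(S, T) := sqP.lift (UT.ι ≫ eP) (pX ≫ hT.isoSpec.hom) (by
    rw [Category.assoc, Category.assoc, heP, hT.isoSpec_hom_fromSpec, morphismRestrict_ι])
  have hjc : j ≫ QuotProj11.spaceEmb n S T hT = UT.ι ≫ eP := sqP.lift_fst _ _ _
  haveI hj : IsImmersion j := by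
    haveI : IsImmersion (j ≫ QuotProj11.spaceEmb n S T hT) := by rw [hjc]; infer_instance
    exact IsImmersion.of_comp j (QuotProj11.spaceEmb n S T hT)
  let z₀ : (UT : Scheme.{u}) := ⟨z, hzT⟩
  have hv₀ : ∀ (e : (RT : Scheme.{u})), (v e).1 = G.s e.1 := fun e => morphismRestrict_base_coe _ _ _
  have hz₀ : z₀ ∈ Set.range v := ⟨⟨G.e z, show G.s (G.e z) ∈ UT by rw [s_e]; exact hzT⟩,
    Subtype.ext ((hv₀ _).trans (s_e z))⟩
  have hzc₀ : ∀ z' : (UT : Scheme.{u}), z' ∈ closure ({z₀} : Set (UT : Scheme.{u})) → pX z' = pX z₀ → z' = z₀ := by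
    intro z' hz' he
    refine Subtype.ext (hz _ ?_ ?_)
    · exact specializes_iff_mem_closure.1 ((specializes_iff_mem_closure.2 hz').map UT.ι.continuous)
    · have := congrArg Subtype.val he
      rwa [morphismRestrict_base_coe, morphismRestrict_base_coe] at this
  obtain ⟨F, i, hi, hilfp, hfin, hne, hfl⟩ := exists_cut_finite u₀ v z₀ pX (v ≫ pX) pX hu₀ rfl j hzc₀
    ⟨closure (pX.fiberι (pX z₀) ⁻¹' GrpdCut19.trace u₀ v z₀ (𝟙 _)), isClosed_closure⟩ _ (𝟙 _) inferInstance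
    inferInstance rfl
    (by
      obtain ⟨y, hy⟩ := hz₀
      exact ⟨u₀ y, y, ⟨⟨u₀ y, rfl⟩, hy⟩, rfl⟩)
    (fun y' _ => Flat.stalkMap _ _)
  haveI := hi
  let i₀ : F ⟶ G.U := i ≫ UT.ι
  let f : pullback i u₀ ⟶ (UT : Scheme.{u}) := pullback.snd i u₀ ≫ v
  haveI : IsClosedImmersion (pullback.snd i u₀) := MorphismProperty.pullback_snd _ _ hi
  haveI : IsProper f := inferInstance
  haveI : LocallyOfFinitePresentation (pullback.snd i u₀) := MorphismProperty.pullback_snd _ _ hilfp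
  haveI : LocallyOfFinitePresentation f := inferInstance
  -- comparison with the arrows of `G` with target in `F`
  let k : pullback i u₀ ⟶ V G i₀ := pullback.lift (pullback.snd i u₀ ≫ RT.ι) (pullback.fst i u₀) (by
    simp only [i₀, Category.assoc, pullback.condition_assoc, u₀, Scheme.Hom.resLE_comp_ι])
  have hk1 : k ≫ pullback.fst G.t i₀ = pullback.snd i u₀ ≫ RT.ι := pullback.lift_fst _ _ _
  have hk2 : k ≫ pullback.snd G.t i₀ = pullback.fst i u₀ := pullback.lift_snd _ _ _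
  have sq0 : IsPullback v RT.ι UT.ι G.s := isPullback_morphismRestrict G.s UT
  have sqk : IsPullback k f (q G i₀) UT.ι := by
    refine ⟨⟨by rw [reassoc_of% hk1]; simp only [f, v, RT, Category.assoc, morphismRestrict_ι]⟩,
      ⟨PullbackCone.IsLimit.mk _ (fun c => pullback.lift (c.fst ≫ pullback.snd G.t i₀)
        (sq0.lift c.snd (c.fst ≫ pullback.fst G.t i₀) (c.condition.symm.trans (Category.assoc _ _ _).symm)) ?_)
        (fun c => ?_) (fun c => ?_) fun c m h1 h2 => ?_⟩⟩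
    · rw [← cancel_mono UT.ι]
      simp only [u₀, Category.assoc, Scheme.Hom.resLE_comp_ι, IsPullback.lift_snd_assoc]
      exact congrArg (c.fst ≫ ·) pullback.condition.symm
    · refine pullback.hom_ext ?_ ?_
      · rw [Category.assoc, hk1, pullback.lift_snd_assoc, IsPullback.lift_snd]
      · rw [Category.assoc, hk2, pullback.lift_fst]
    · simp only [f, pullback.lift_snd_assoc, IsPullback.lift_fst]
    · refine pullback.hom_ext ?_ (sq0.hom_ext ?_ ?_)
      · rw [pullback.lift_fst, ← h1, Category.assoc, hk2]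
      · rw [pullback.lift_snd, IsPullback.lift_fst, Category.assoc]
        exact h2
      · rw [pullback.lift_snd, IsPullback.lift_snd, ← h1, Category.assoc, Category.assoc, hk1]
  haveI : LocallyOfFiniteType (q G i₀) := by
    haveI : LocallyOfFiniteType i₀ := inferInstance
    haveI : LocallyOfFiniteType (pullback.fst G.t i₀) := MorphismProperty.pullback_fst _ _ ‹_›
    infer_instance
  haveI : Flat v := inferInstance
  let H := GrpQuot.restr G UT hRT.symm
  haveI : Flat H.s := ‹Flat v›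
  haveI : Flat H.t := by show Flat u₀; infer_instance
  let f₂ : pullback u₀ i ⟶ (UT : Scheme.{u}) := pullback.fst u₀ i ≫ v
  have sqH : IsPullback (pullbackSymmetry i u₀).hom f f₂ (𝟙 (UT : Scheme.{u})) :=
    IsPullback.of_horiz_isIso ⟨by
      rw [Category.comp_id]
      show (pullbackSymmetry i u₀).hom ≫ pullback.fst u₀ i ≫ v = pullback.snd i u₀ ≫ v
      rw [pullbackSymmetry_hom_comp_fst_assoc]⟩
  haveI : LocallyOfFiniteType f₂ := by
    haveI : LocallyOfFiniteType (pullback.fst u₀ i) := MorphismProperty.pullback_fst _ _ inferInstance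
    infer_instance
  haveI : QuasiCompact f₂ := by
    haveI : QuasiCompact (pullback.fst u₀ i) := MorphismProperty.pullback_fst _ _ inferInstance
    infer_instance
  haveI : LocallyOfFiniteType (q H i) := by
    show LocallyOfFiniteType (pullback.fst u₀ i ≫ v)
    haveI : LocallyOfFiniteType (pullback.fst u₀ i) := MorphismProperty.pullback_fst _ _ inferInstance
    infer_instance
  haveI : QuasiCompact (q H i) := by
    show QuasiCompact (pullback.fst u₀ i ≫ v)
    haveI : QuasiCompact (pullback.fst u₀ i) := MorphismProperty.pullback_fst _ _ inferInstance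
    infer_instance
  obtain ⟨Wf, hWf, hWfin, hWflat, hWsurj⟩ := exists_open_good f
  let W : G.U.Opens := UT.ι ''ᵁ Wf
  have hUT : ∀ y, Good (q G i₀) y → y ∈ UT := by
    rintro y ⟨-, ⟨p, hp⟩, -⟩
    have h1 : G.t (pullback.fst G.t i₀ p) ∈ UT := by
      rw [← Scheme.Hom.comp_apply, pullback.condition, Scheme.Hom.comp_apply, Scheme.Hom.comp_apply]
      exact (i _).2
    have h2 : pullback.fst G.t i₀ p ∈ RT := hRT ▸ h1
    rw [← show q G i₀ p = y from hp, Scheme.Hom.comp_apply]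
    exact h2
  have hmem : ∀ y, y ∈ W ↔ Good (q G i₀) y := by
    intro y
    constructor
    · rintro ⟨x, hx, rfl⟩
      exact (good_iff_of_isPullback' sqk x).2 ((hWf x).1 hx)
    · intro h
      exact ⟨⟨y, hUT y h⟩, (hWf _).2 ((good_iff_of_isPullback' sqk ⟨y, hUT y h⟩).1 h), rfl⟩
  have hW : G.t ⁻¹ᵁ W = G.s ⁻¹ᵁ W := by
    ext r
    show G.t r ∈ W ↔ G.s r ∈ W
    rw [hmem, hmem]
    have key : ∀ (hr : r ∈ RT), Good (q G i₀) (G.t r) ↔ Good (q G i₀) (G.s r) := fun hr => by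
      let a : (RT : Scheme.{u}) := ⟨r, hr⟩
      have et : (u₀ a).1 = G.t r := by
        show UT.ι (u₀ a) = G.t r
        rw [← Scheme.Hom.comp_apply, Scheme.Hom.resLE_comp_ι]
        rfl
      have es : (v a).1 = G.s r := hv₀ a
      rw [← et, ← es]
      refine (good_iff_of_isPullback' sqk (u₀ a)).trans (Iff.trans ?_ (good_iff_of_isPullback' sqk (v a)).symm)
      exact (good_iff_of_isPullback sqH (u₀ a)).symm.trans
        ((good_translate H i a).trans (good_iff_of_isPullback sqH (v a)))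
    refine ⟨fun h => (key ?_).1 h, fun h => (key (hUT _ h)).2 h⟩
    exact hRT ▸ (show r ∈ G.t ⁻¹ᵁ UT from hUT _ h)
  have hzW : z ∈ W := by
    refine ⟨z₀, (hWf z₀).2 ⟨?_, ?_, fun y hy => hfl y hy⟩, rfl⟩
    · have h1 := finite_arrows G z hz _ (hfin.image UT.ι)
      refine ((h1.preimage RT.ι.isEmbedding.injective.injOn).preimage
        (pullback.snd i u₀).isEmbedding.injective.injOn).subset fun y hy => ?_
      have hy' : v (pullback.snd i u₀ y) = z₀ := hy
      refine ⟨?_, u₀ (pullback.snd i u₀ y), ⟨pullback.snd i u₀ y, ⟨?_, hy'⟩, rfl⟩, ?_⟩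
      · rw [← show (v (pullback.snd i u₀ y)).1 = z from congrArg Subtype.val hy', hv₀]; rfl
      · refine ⟨pullback.fst i u₀ y, ?_⟩
        rw [← Scheme.Hom.comp_apply, ← Scheme.Hom.comp_apply, pullback.condition]
      · rw [← Scheme.Hom.comp_apply, Scheme.Hom.resLE_comp_ι, Scheme.Hom.comp_apply]
    · obtain ⟨_, y, ⟨hy1, hy2⟩, rfl⟩ := hne
      obtain ⟨a, ha⟩ := hy1
      obtain ⟨p, hp1, hp2⟩ := Scheme.Pullback.exists_preimage_pullback (f := i) (g := u₀) a y ha
      exact ⟨p, show v (pullback.snd i u₀ p) = z₀ by rw [hp2]; exact hy2⟩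
  let U' : F.Opens := i₀ ⁻¹ᵁ W
  let u' : (U' : Scheme.{u}) ⟶ W := i₀ ∣_ W
  haveI : IsImmersion u' := IsZariskiLocalAtTarget.restrict (P := @IsImmersion) inferInstance W
  let tW := G.t.resLE W (G.s ⁻¹ᵁ W) hW.ge
  let m : pullback tW u' ⟶ W := pullback.fst tW u' ≫ (G.s ∣_ W)
  have sq1 : IsPullback (G.s ∣_ W) (G.s ⁻¹ᵁ W).ι W.ι G.s := isPullback_morphismRestrict G.s W
  have sq2 : IsPullback u' U'.ι W.ι i₀ := isPullback_morphismRestrict i₀ W
  let kk : pullback tW u' ⟶ V G i₀ := pullback.lift (pullback.fst tW u' ≫ (G.s ⁻¹ᵁ W).ι)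
    (pullback.snd tW u' ≫ U'.ι) (by
      rw [Category.assoc, Category.assoc, ← sq2.w, ← pullback.condition_assoc]
      simp only [tW, Scheme.Hom.resLE_comp_ι])
  have hkk1 : kk ≫ pullback.fst G.t i₀ = pullback.fst tW u' ≫ (G.s ⁻¹ᵁ W).ι := pullback.lift_fst _ _ _
  have hkk2 : kk ≫ pullback.snd G.t i₀ = pullback.snd tW u' ≫ U'.ι := pullback.lift_snd _ _ _
  have sqm : IsPullback kk m (q G i₀) W.ι := by
    refine ⟨⟨by rw [reassoc_of% hkk1]; simp only [m, Category.assoc, morphismRestrict_ι]⟩,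
      ⟨PullbackCone.IsLimit.mk _ (fun c =>
        let l₁ := sq1.lift c.snd (c.fst ≫ pullback.fst G.t i₀) (c.condition.symm.trans (Category.assoc _ _ _).symm)
        pullback.lift l₁ (sq2.lift (l₁ ≫ tW) (c.fst ≫ pullback.snd G.t i₀) (by
          simp only [l₁, tW, Category.assoc, Scheme.Hom.resLE_comp_ι, IsPullback.lift_snd_assoc]
          exact congrArg (c.fst ≫ ·) pullback.condition)) (IsPullback.lift_fst _ _ _ _).symm)
        (fun c => ?_) (fun c => ?_) fun c m' h1 h2 => ?_⟩⟩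
    · refine pullback.hom_ext ?_ ?_
      · rw [Category.assoc, hkk1, pullback.lift_fst_assoc, IsPullback.lift_snd]
      · rw [Category.assoc, hkk2, pullback.lift_snd_assoc, IsPullback.lift_snd]
    · simp only [m, pullback.lift_fst_assoc, IsPullback.lift_fst]
    · have e1 : m' ≫ pullback.fst tW u' = sq1.lift c.snd (c.fst ≫ pullback.fst G.t i₀)
          (c.condition.symm.trans (Category.assoc _ _ _).symm) := by
        refine sq1.hom_ext ?_ ?_
        · rw [IsPullback.lift_fst, Category.assoc]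
          exact h2
        · rw [IsPullback.lift_snd, ← h1, Category.assoc, Category.assoc, hkk1]
      refine pullback.hom_ext ?_ (sq2.hom_ext ?_ ?_)
      · rw [pullback.lift_fst, e1]
      · rw [pullback.lift_snd, IsPullback.lift_fst, Category.assoc, ← pullback.condition, ← Category.assoc, e1]
      · rw [pullback.lift_snd, IsPullback.lift_snd, ← h1, Category.assoc, Category.assoc, hkk2]
  let iW : (Wf : Scheme.{u}) ≅ W := UT.ι.isoImage Wf
  have sqf : IsPullback ((f ⁻¹ᵁ Wf).ι ≫ k) (f ∣_ Wf) (q G i₀) (Wf.ι ≫ UT.ι) :=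
    (isPullback_morphismRestrict f Wf).flip.paste_horiz sqk
  have hWι : iW.inv ≫ Wf.ι ≫ UT.ι = W.ι := by
    rw [Iso.inv_comp_eq]
    exact (UT.ι.isoImage_hom_ι Wf).symm
  have hw : kk ≫ q G i₀ = (m ≫ iW.inv) ≫ Wf.ι ≫ UT.ι := by
    rw [sqm.w]
    exact (congrArg (m ≫ ·) hWι.symm).trans (Category.assoc _ _ _).symm
  have sqx : IsPullback (sqf.lift kk (m ≫ iW.inv) hw) m (f ∣_ Wf) iW.inv := by
    refine IsPullback.of_right (h₁₂ := (f ⁻¹ᵁ Wf).ι ≫ k) (h₂₂ := Wf.ι ≫ UT.ι) ?_ (sqf.lift_snd _ _ hw) sqf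
    rw [sqf.lift_fst, hWι]
    exact sqm
  haveI hm1 : IsFinite m := MorphismProperty.of_isPullback (P := @IsFinite) sqx hWfin
  haveI hm2 : Flat m := MorphismProperty.of_isPullback (P := @Flat) sqx hWflat
  haveI hm3 : Surjective m := MorphismProperty.of_isPullback (P := @Surjective) sqx hWsurj
  haveI hwlfp : LocallyOfFinitePresentation (f ∣_ Wf) :=
    IsZariskiLocalAtTarget.restrict (P := @LocallyOfFinitePresentation) inferInstance Wf
  haveI hm4 : LocallyOfFinitePresentation m := MorphismProperty.of_isPullback (P := @LocallyOfFinitePresentation) sqx hwlfp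
  refine ⟨W, hW, hzW, U', u', inferInstance, ⟨hm1, hm2, hm4⟩, hm3, fun E hE => ?_⟩
  have hu' : ∀ x, (u' ≫ W.ι) x = i₀ x.1 := fun x => by
    rw [morphismRestrict_ι, Scheme.Hom.comp_apply]
    rfl
  have hEfin : E.Finite := by
    rcases E.eq_empty_or_nonempty with rfl | ⟨x₀, hx₀⟩
    · exact Set.finite_empty
    have hfin₀ : (q G i₀ ⁻¹' {i₀ x₀.1}).Finite := ((hmem _).1 x₀.2).1
    refine Set.Finite.of_finite_image ((hfin₀.image (pullback.snd G.t i₀)).subset ?_) Subtype.val_injective.injOn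
    rintro _ ⟨y, hy, rfl⟩
    obtain ⟨r, hrt, hrs⟩ := hE y hy x₀ hx₀
    obtain ⟨p, hp1, hp2⟩ := Scheme.Pullback.exists_preimage_pullback (f := G.t) (g := i₀) r y.1 (hrt.trans (hu' y))
    refine ⟨p, ?_, hp2⟩
    show q G i₀ p = i₀ x₀.1
    rw [Scheme.Hom.comp_apply, hp1, hrs, hu']
  let ι' : (U' : Scheme.{u}) ⟶ Proj (CohB1.polyGrading n Γ(S, T)) := U'.ι ≫ i ≫ j
  haveI : IsImmersion ι' := MorphismProperty.comp_mem _ _ _ inferInstance (MorphismProperty.comp_mem _ _ _ inferInstance hj)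
  exact FinProj19.exists_affineOpen_of_finite_proj (CohB1.polyGrading n Γ(S, T)) ι' E hEfin

end Groth.Agent.GrpdProper32
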