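import Groth.Agent.Lib.GrpdProper32.Exists
import Groth.Agent.Lib.GrpdProper19.Glue
import Groth.Agent.Lib.GrpdQSec19.Main
import Groth.Agent.S4091
import Groth.Agent.Lib.StAlg16.ImmNoeth
import Mathlib.AlgebraicGeometry.Morphisms.LocalFlatDescent

/-!
# Quotients by proper flat groupoids with quasi-finite stabilizers over any base
-/

set_option autoImplicit false
set_option linter.style.haveILetI false
set_option backward.isDefEq.respectTransparency.types false
universe u

open CategoryTheory CategoryTheory.Limits AlgebraicGeometry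

noncomputable section

namespace Groth.Agent.GrpdProper32

open Groth.Agent.GrpQuot Groth.Agent.GrpdB Groth.Agent.GrpdProper19

theorem exists_closed_in_fibre {X T : Scheme.{u}} (f : X ⟶ T) [QuasiCompact f] (x : X) :
    ∃ z, x ⤳ z ∧ f z = f x ∧ ∀ z', z' ∈ closure ({z} : Set X) → f z' = f z → z' = z := by
  obtain ⟨b, hb⟩ : x ∈ Set.range (f.fiberι (f x)) := by rw [f.range_fiberι]; rfl
  obtain ⟨c, hc, hcc⟩ := IsClosed.exists_closed_singleton (S := closure ({b} : Set (f.fiber (f x))))
    isClosed_closure ⟨b, subset_closure rfl⟩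
  have hf : ∀ a, f (f.fiberι (f x) a) = f x := fun a => by
    have : f.fiberι (f x) a ∈ Set.range (f.fiberι (f x)) := ⟨a, rfl⟩
    rwa [f.range_fiberι] at this
  refine ⟨f.fiberι (f x) c, (specializes_of_eq hb.symm).trans ((specializes_iff_mem_closure.2 hc).map (f.fiberι (f x)).continuous), hf c,
    fun z' hz' he => ?_⟩
  obtain ⟨a, rfl⟩ : z' ∈ Set.range (f.fiberι (f x)) := by rw [f.range_fiberι]; exact he.trans (hf c)
  have h1 : a ∈ closure ({c} : Set (f.fiber (f x))) := specializes_iff_mem_closure.1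
    ((f.fiberι (f x)).isEmbedding.isInducing.specializes_iff.1 (specializes_iff_mem_closure.2 hz'))
  rw [hcc.closure_eq] at h1
  exact congrArg _ h1

variable {S : Scheme.{u}} (G : Grpd.GroupoidScheme S) [IsProper G.s] [Flat G.s]
  [LocallyOfFinitePresentation G.s] [LocallyQuasiFinite G.j] [LocallyOfFiniteType G.pU] [QuasiCompact G.pU]

omit [IsProper G.s] [LocallyOfFinitePresentation G.s] [LocallyQuasiFinite G.j] [LocallyOfFiniteType G.pU]
  [QuasiCompact G.pU] in
theorem flat_t' : Flat G.t := by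
  haveI := GrpQuot.isIso_i G
  rw [← G.i_s]; infer_instance

omit [Flat G.s] [LocallyOfFinitePresentation G.s] [LocallyQuasiFinite G.j] [LocallyOfFiniteType G.pU]
  [QuasiCompact G.pU] in
theorem isProper_t' : IsProper G.t := by
  haveI := GrpQuot.isIso_i G
  rw [← G.i_s]; infer_instance

omit [IsProper G.s] [Flat G.s] [LocallyQuasiFinite G.j] [LocallyOfFiniteType G.pU]
  [QuasiCompact G.pU] in
theorem lfp_t : LocallyOfFinitePresentation G.t := by
  haveI := GrpQuot.isIso_i G
  rw [← G.i_s]; infer_instance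

/-- A chart near every point, with all the local properties. -/
theorem exists_chart (n : ℕ) (eP : G.U ⟶ CohB1.ProjSpaceOver n S) [IsImmersion eP]
    (heP : eP ≫ CohB1.ProjSpaceOver.toBase n S = G.pU) (x : G.U) :
    ∃ c : Chart G, x ∈ c.W ∧ UniversallyClosed c.p ∧
      (Mono G.j → IsPullback (sO G c.W) (tO G c.W c.inv) c.p c.p ∧ Flat c.p) := by
  haveI := GrpdProper32.flat_t' G
  haveI := GrpdProper32.isProper_t' G
  haveI := GrpdProper32.lfp_t G
  obtain ⟨z, hxz, -, hz⟩ := GrpdProper32.exists_closed_in_fibre G.pU x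
  obtain ⟨W, hW, hzW, U', u, hu, hfl, hsurj, h2⟩ := exists_quasiSection_nhd G n eP heP z hz
  let H := restr G W hW.symm
  haveI : IsImmersion (show U' ⟶ H.U from u) := hu
  haveI : IsFinite (GrpdQSec19.q H u) := hfl.1
  haveI : Flat (GrpdQSec19.q H u) := hfl.2.1
  haveI : LocallyOfFinitePresentation (GrpdQSec19.q H u) := hfl.2.2
  haveI : Surjective (GrpdQSec19.q H u) := hsurj
  obtain ⟨Y, p, w, -, -, -, hcl, -, hmono, hQ, -⟩ := GrpdQSec19.main' H u (fun E hE => h2 E fun a ha b hb => by
    obtain ⟨r, hr1, hr2⟩ := hE a ha b hb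
    refine ⟨(G.s ⁻¹ᵁ W).ι r, ?_, ?_⟩
    · rw [← Scheme.Hom.comp_apply, ← tO_ι G W hW.symm, Scheme.Hom.comp_apply, Scheme.Hom.comp_apply]
      exact congrArg W.ι hr1
    · rw [← Scheme.Hom.comp_apply, ← sO_ι, Scheme.Hom.comp_apply, Scheme.Hom.comp_apply]
      exact congrArg W.ι hr2)
  have htflat : Flat H.t := by
    show Flat (G.t.resLE W (G.s ⁻¹ᵁ W) hW.ge)
    infer_instance
  have htclosed : UniversallyClosed H.t := by
    show UniversallyClosed (G.t.resLE W (G.s ⁻¹ᵁ W) hW.ge)
    rw [Scheme.Hom.resLE_congr G.t _ rfl hW.symm @UniversallyClosed, Scheme.Hom.resLE_eq_morphismRestrict]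
    infer_instance
  have hopen : IsOpenMap H.t.base := by
    haveI := htflat
    haveI : LocallyOfFiniteType H.t := by
      show LocallyOfFiniteType (G.t.resLE W (G.s ⁻¹ᵁ W) hW.ge)
      infer_instance
    haveI : LocallyOfFinitePresentation H.t := by
      show LocallyOfFinitePresentation (G.t.resLE W (G.s ⁻¹ᵁ W) hW.ge)
      infer_instance
    haveI : UniversallyOpen H.t := inferInstance
    exact H.t.isOpenMap
  have hslft : LocallyOfFiniteType H.s := by
    show LocallyOfFiniteType (G.s ∣_ W)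
    infer_instance
  have hQ' : IsQuot G W.ι p := IsQuot.of_restr G W hW.symm (hQ hslft hopen)
  let c : Chart G := ⟨W, hW.symm, Y, p, hQ'⟩
  obtain ⟨e, he⟩ := hQ'.exists_iso c.isQuot
  refine ⟨c, hxz.mem_open W.2 hzW, ?_, fun hm => ?_⟩
  · haveI := hcl htclosed
    rw [← he]
    exact MorphismProperty.comp_mem @UniversallyClosed _ _ (hcl htclosed) inferInstance
  · haveI := hm
    haveI : Mono H.j := mono_j_restr W hW.symm
    obtain ⟨hpb, hflat⟩ := hmono inferInstance
    haveI := hflat htflat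
    rw [← he]
    refine ⟨?_, MorphismProperty.comp_mem @Flat _ _ (hflat htflat) inferInstance⟩
    exact hpb.flip.of_iso (Iso.refl _) (Iso.refl _) (Iso.refl _) e
      (by simp [H, restr]; rfl) (by simp [H, restr]; rfl) (Category.id_comp (p ≫ e.hom)).symm (Category.id_comp (p ≫ e.hom)).symm

theorem exists_quotient (n : ℕ) (eP : G.U ⟶ CohB1.ProjSpaceOver n S) [IsImmersion eP]
    (heP : eP ≫ CohB1.ProjSpaceOver.toBase n S = G.pU) [LocallyOfFinitePresentation G.pU] [QuasiSeparated G.pU] :
    ∃ (Y : Scheme.{u}) (p : G.U ⟶ Y) (w : G.t ≫ p = G.s ≫ p) (q : Y ⟶ S),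
      Nonempty (IsColimit (Cofork.ofπ p w)) ∧ p ≫ q = G.pU ∧ Surjective p ∧ IsOpenMap p.base ∧ UniversallyClosed p ∧
      Function.Surjective (pullback.lift G.t G.s w).base ∧
      (Mono G.j → IsPullback G.t G.s p p ∧ Flat p ∧ LocallyOfFinitePresentation p ∧ QuasiCompact p ∧ QuasiSeparated p ∧
        LocallyOfFinitePresentation q ∧ QuasiCompact q ∧ QuasiSeparated q) := by
  have hch := exists_chart G n eP heP
  have hcov : ∀ x : G.U, ∃ c : Chart G, x ∈ c.W := fun x =>
    let ⟨c, hc, _⟩ := hch x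
    ⟨c, hc⟩
  let p := toGlued hcov
  have w : G.t ≫ p = G.s ≫ p := t_toGlued hcov
  obtain ⟨q, hq, -⟩ := exists_desc_glued hcov G.pU (by rw [G.t_over, G.s_over])
  haveI hps : Surjective p := surjective_toGlued hcov
  haveI hpcl : UniversallyClosed p := toGlued_of_charts hcov @UniversallyClosed fun x =>
    let ⟨c, hc, h1, _⟩ := hch x
    ⟨c, hc, h1⟩
  refine ⟨Quot G, p, w, q, ⟨Cofork.IsColimit.ofExistsUnique fun s => exists_desc_glued hcov s.π s.condition⟩,
    hq, hps, isOpenMap_toGlued hcov, hpcl, surjective_lift_glued hcov, fun hm => ?_⟩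
  haveI := hm
  have hpb : IsPullback G.t G.s p p := isPullback_of_charts hcov fun x =>
    let ⟨c, hc, _, h⟩ := hch x
    ⟨c, hc, (h hm).1⟩
  haveI hflat : Flat p := toGlued_of_charts hcov @Flat fun x =>
    let ⟨c, hc, _, h⟩ := hch x
    ⟨c, hc, (h hm).2⟩
  haveI : QuasiCompact p := inferInstance
  haveI : LocallyOfFinitePresentation (pullback.fst p p) := by
    haveI := lfp_t G
    rw [← hpb.isoPullback_inv_fst]
    infer_instance
  haveI : LocallyOfFinitePresentation p :=
    MorphismProperty.of_pullback_fst_of_descendsAlong (P := @LocallyOfFinitePresentation)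
      (Q := @Surjective ⊓ @Flat ⊓ @QuasiCompact) (f := p) (g := p) ⟨⟨hps, hflat⟩, inferInstance⟩ inferInstance
  haveI : QuasiSeparated (p ≫ q) := by rw [hq]; infer_instance
  haveI : QuasiSeparated p := QuasiSeparated.of_comp p q
  obtain ⟨h1, h2, h3⟩ := (Groth.Agent.S4091.result p q).2
    ⟨by rw [hq]; infer_instance, by rw [hq]; infer_instance, inferInstance⟩
  exact ⟨hpb, hflat, inferInstance, inferInstance, inferInstance, h1, h2, h3⟩

end Groth.Agent.GrpdProper32
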